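import Groth.Agent.PnHyper.Vanish
import Groth.Agent.DegMono.Torsion
import Groth.Agent.LocFree.SES
import Groth.Agent.LocFree.Rank
import Groth.Agent.Ega2Proj.SpanOn
import Groth.Agent.PicAux.Powers
import Groth.Agent.EulerDeg.HLinear

/-!
# Morphisms and restriction to a closed subscheme
-/

set_option autoImplicit false

noncomputable section

universe u

open CategoryTheory CategoryTheory.Limits AlgebraicGeometry
open Groth.CohTwo.LocFreeExt (tR)
open Groth.Misc7.ClosedImm Groth.ArtfunDeform.VbLift
open Groth.PicAux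

attribute [local instance] HasFiniteBiproducts.of_hasFiniteProducts

namespace Groth.PnHyper

variable {X Z : Scheme.{u}} (I : X.IdealSheafData)

/-- The inclusion `E ⊗ I → E`. -/
def jmap (E : X.Modules) : CohB1.tensorMod E (ClSub.idealMod I) ⟶ E :=
  KoszTw.tensorMap (𝟙 E) (ClSub.idealModι I) ≫ (SecTwist.unitorR E).hom

theorem jmap_natural {E F : X.Modules} (φ : E ⟶ F) :
    KoszTw.tensorMap φ (𝟙 (ClSub.idealMod I)) ≫ jmap I F = jmap I E ≫ φ := by
  rw [jmap, jmap, Category.assoc, ← Groth.DegMono.unitorR_natural, ← Category.assoc, ← Category.assoc,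
    ← KoszTw.tensorMap_comp, ← KoszTw.tensorMap_comp, Category.comp_id, Category.id_comp,
    Category.comp_id, Category.id_comp]

/-- `0 → E ⊗ I → E → ι_* ι^* E → 0` with its maps. -/
theorem exists_jSeq {E : X.Modules} (hE : FlatMod.IsFinLocFree E) :
    ∃ w : jmap I E ≫ (Scheme.Modules.pullbackPushforwardAdjunction I.subschemeι).unit.app E = 0,
      (ShortComplex.mk (jmap I E) _ w).ShortExact := by
  let A := Scheme.Modules.pullbackPushforwardAdjunction I.subschemeι
  let P := Scheme.Modules.pullback I.subschemeι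
  let S₀ := ShortComplex.mk (ClSub.idealModι I) (ClSub.toSubscheme I)
    (kernel.condition (ClSub.toSubscheme I))
  let S := S₀.map (tR E)
  have hS : S.ShortExact := shortExact_tensor hE (Groth.PicAux.shortExact_idealMod I)
  have hk₃ : Killed I.subschemeι S.X₃ := killed_tensor_left I.subschemeι (killed_push I.subschemeι _) E
  obtain ⟨e, he⟩ := Groth.PicAux.exists_leftUnitor E
  obtain ⟨b, hb⟩ := exists_braiding E (ClSub.idealMod I)
  have : P.Additive := A.left_adjoint_additive
  have hf0 : P.map S.f = 0 := by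
    have h := (pullTensorIso I.subschemeι E).hom.naturality (ClSub.idealModι I)
    have h0 : (tR (P.obj E)).map (P.map (ClSub.idealModι I)) = 0 := by
      rw [pull_idealModι]
      have := Groth.CohTwo.LocFreeExt.additive_tR (P.obj E)
      exact (tR (P.obj E)).map_zero _ _
    change P.map ((tR E).map (ClSub.idealModι I)) = 0
    rw [← cancel_mono ((pullTensorIso I.subschemeι E).hom.app (Coh.structureModule X)), zero_comp]
    refine h.trans ?_
    change _ ≫ (tR (P.obj E)).map (P.map (ClSub.idealModι I)) = 0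
    rw [h0, comp_zero]
  have : PreservesColimitsOfSize.{0, 0} P := A.leftAdjoint_preservesColimits
  have := hS.epi_g
  have hex : (S.map P).Exact := hS.exact.map_of_epi_of_preservesCokernel _ inferInstance inferInstance
  have : Mono (P.map S.g) := hex.mono_g hf0
  have : Epi (P.map S.g) := P.map_epi S.g
  have : IsIso (P.map S.g) := isIso_of_mono_of_epi _
  have hu := isIso_unit I.subschemeι hk₃
  let c : S.X₃ ≅ (Scheme.Modules.pushforward I.subschemeι).obj (P.obj E) :=
    @asIso _ _ _ _ (A.unit.app S.X₃) hu ≪≫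
      (Scheme.Modules.pushforward I.subschemeι).mapIso ((asIso (P.map S.g)).symm ≪≫ P.mapIso e)
  have hc : S.g ≫ c.hom = e.hom ≫ A.unit.app E := by
    simp only [c, Iso.trans_hom, asIso_hom, Functor.mapIso_hom, Iso.symm_hom, asIso_inv, Functor.map_comp]
    rw [← Category.assoc S.g]
    have hn : S.g ≫ A.unit.app S.X₃ = A.unit.app S.X₂ ≫ (Scheme.Modules.pushforward I.subschemeι).map (P.map S.g) :=
      A.unit.naturality S.g
    rw [hn, Category.assoc, ← (Scheme.Modules.pushforward I.subschemeι).map_comp_assoc, IsIso.hom_inv_id]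
    simp only [CategoryTheory.Functor.map_id, Category.id_comp]
    exact (A.unit.naturality e.hom).symm
  let f₀ : CohB1.tensorMod (ClSub.idealMod I) E ⟶ CohB1.tensorMod (Coh.structureModule X) E := S.f
  let g₀ : CohB1.tensorMod (Coh.structureModule X) E ⟶ S.X₃ := S.g
  have hfg : f₀ ≫ g₀ = 0 := S.zero
  have hf₀ : f₀ = KoszTw.tensorMap (ClSub.idealModι I) (𝟙 E) :=
    (show f₀ = (DCoh.tensorRightMod E).map (ClSub.idealModι I) from rfl).trans (KoszTw.tensorRightMod_map _ _)
  have hc' : g₀ ≫ c.hom = e.hom ≫ A.unit.app E := hc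
  have hj : b.hom ≫ f₀ ≫ e.hom = jmap I E := by
    refine tensor_hom_ext fun W a t => ?_
    change e.hom.app W (f₀.app W (b.hom.app W (tmulSec a t))) =
      (SecTwist.unitorR E).hom.app W ((KoszTw.tensorMap (𝟙 E) (ClSub.idealModι I)).app W (tmulSec a t))
    rw [hb, hf₀, tensorMap_app_tmulSec, tensorMap_app_tmulSec, he]
    exact (SecTwist.unitorR_tmul E W a _).symm
  have w : jmap I E ≫ A.unit.app E = 0 := by
    rw [← hj, Category.assoc, Category.assoc]
    erw [← hc']
    rw [reassoc_of% hfg, zero_comp, comp_zero]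
  exact ⟨w, ShortComplex.shortExact_of_iso
    (ShortComplex.isoMk b.symm e c ((congrArg (b.inv ≫ ·) hj.symm).trans (b.inv_hom_id_assoc _)) hc.symm) hS⟩

/-- Morphisms killed on the subscheme factor through `E ⊗ I`. -/
theorem exists_factor_of_pullback_eq_zero {E L : X.Modules} (hE : FlatMod.IsFinLocFree E) (σ : L ⟶ E)
    (h : (Scheme.Modules.pullback I.subschemeι).map σ = 0) : ∃ σ', σ' ≫ jmap I E = σ := by
  obtain ⟨w, hS⟩ := exists_jSeq I hE
  have := hS.mono_f
  let A := Scheme.Modules.pullbackPushforwardAdjunction I.subschemeι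
  have : (Scheme.Modules.pushforward I.subschemeι).Additive := A.right_adjoint_additive
  have h0 : σ ≫ A.unit.app E = 0 := by
    refine (A.unit.naturality σ).trans ?_
    change A.unit.app L ≫ (Scheme.Modules.pushforward I.subschemeι).map ((Scheme.Modules.pullback I.subschemeι).map σ) = 0
    rw [h, Functor.map_zero, comp_zero]
  exact ⟨hS.exact.lift σ h0, hS.exact.lift_f σ h0⟩

/-- Morphisms out of an invertible module lift when `H¹` of the twisted kernel vanishes. -/
theorem exists_lift_invertible (k : Type u) [Field k] [X.Over (Spec (CommRingCat.of k))]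
    {S : ShortComplex X.Modules} (hS : S.ShortExact)
    {L M : X.Modules} (hM : PicF.IsInvertible M) (e : CohB1.tensorMod L M ≅ Coh.structureModule X)
    (h1 : Subsingleton (Coh.HH X (CohB1.tensorMod S.X₁ M) 1)) (q : L ⟶ S.X₃) :
    ∃ p : L ⟶ S.X₂, p ≫ S.g = q := by
  let F := DCoh.tensorRightMod M
  haveI : F.IsEquivalence := isEquivalence_tensorRightMod_of_isInvertible hM
  let e' : Coh.structureModule X ≅ F.obj L := e.symm
  obtain ⟨t, ht⟩ := Groth.Variety2.Reg.surjective_app_top k (shortExact_tensorRightMod hM hS) h1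
    ((e'.hom ≫ F.map q).app ⊤ (oneSec X ⊤))
  refine ⟨F.preimage (e'.inv ≫ homOfSection t), F.map_injective ?_⟩
  rw [Functor.map_comp, Functor.map_preimage, Category.assoc, Iso.inv_comp_eq]
  refine hom_structure_ext ?_
  refine Eq.trans ?_ ht
  exact congrArg (fun z => (F.map S.g).app ⊤ z) (homOfSection_one t)

/-- Morphisms on the subscheme lift. -/
theorem exists_lift_of_pullback (k : Type u) [Field k] [X.Over (Spec (CommRingCat.of k))]
    {E : X.Modules} (hE : FlatMod.IsFinLocFree E) {L M : X.Modules} (hM : PicF.IsInvertible M)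
    (e : CohB1.tensorMod L M ≅ Coh.structureModule X)
    (h1 : Subsingleton (Coh.HH X (CohB1.tensorMod (CohB1.tensorMod E (ClSub.idealMod I)) M) 1))
    (σ₀ : (Scheme.Modules.pullback I.subschemeι).obj L ⟶ (Scheme.Modules.pullback I.subschemeι).obj E) :
    ∃ σ : L ⟶ E, (Scheme.Modules.pullback I.subschemeι).map σ = σ₀ := by
  obtain ⟨w, hS⟩ := exists_jSeq I hE
  let A := Scheme.Modules.pullbackPushforwardAdjunction I.subschemeι
  obtain ⟨σ, hσ⟩ := exists_lift_invertible k hS hM e h1 (A.homEquiv L _ σ₀)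
  refine ⟨σ, (A.homEquiv L _).injective ?_⟩
  rw [← hσ, Adjunction.homEquiv_unit]
  exact (A.unit.naturality σ).symm

/-- An epimorphism between bundles of the same rank is an isomorphism. -/
theorem isIso_of_epi_rank {r : ℕ} {E F : X.Modules} (hE : FlatMod.IsFinLocFreeOfRank r E)
    (hF : FlatMod.IsFinLocFreeOfRank r F) (φ : E ⟶ F) [Epi φ] : IsIso φ := by
  have hEl := Groth.LocFree.isFinLocFree_of_rank hE
  have hFl := Groth.LocFree.isFinLocFree_of_rank hF
  haveI := KTheory.LocFree.isQCoh hEl
  haveI := KTheory.LocFree.isQCoh hFl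
  refine Groth.QCohMod.isIso_of_stalk φ fun x => ?_
  have := Groth.LocFree.finite_stalk hEl x
  have := Groth.LocFree.finite_stalk hFl x
  have := Groth.KTheory.LocFree.free_stalk hEl x
  have := Groth.KTheory.LocFree.free_stalk hFl x
  let e : E.presheaf.stalk x ≃ₗ[X.presheaf.stalk x] F.presheaf.stalk x :=
    LinearEquiv.ofFinrankEq _ _ ((Groth.LocFree.finrank_stalk hE x).trans (Groth.LocFree.finrank_stalk hF x).symm)
  have hs : Function.Surjective (Groth.Ega2Proj.stalkLin φ x) := (Groth.QCohMod.epi_iff_stalk φ).1 inferInstance x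
  have hi : Function.Injective (e.symm.toLinearMap ∘ₗ Groth.Ega2Proj.stalkLin φ x) :=
    OrzechProperty.injective_of_surjective_endomorphism _ (e.symm.surjective.comp hs)
  rw [ConcreteCategory.isIso_iff_bijective]
  exact ⟨fun a b h => hi (congrArg e.symm h), hs⟩

/-- Splitting off the first summand. -/
def sigmaSucc {n : ℕ} (M : Fin (n + 1) → X.Modules) : (∐ M) ≅ M 0 ⊞ ∐ (fun i : Fin n => M i.succ) where
  hom := Sigma.desc (Fin.cases biprod.inl fun i => Sigma.ι (fun i : Fin n => M i.succ) i ≫ biprod.inr)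
  inv := biprod.desc (Sigma.ι M 0) (Sigma.desc fun i => Sigma.ι M i.succ)
  hom_inv_id := Sigma.hom_ext _ _ fun i => by
    refine Fin.cases ?_ (fun i => ?_) i <;> simp
  inv_hom_id := biprod.hom_ext' _ _ (by simp) (by
    refine Sigma.hom_ext _ _ fun i => ?_
    simp)

theorem isFinLocFreeOfRank_sigma : ∀ {n : ℕ} (M : Fin n → X.Modules),
    (∀ i, FlatMod.IsFinLocFreeOfRank 1 (M i)) → FlatMod.IsFinLocFreeOfRank n (∐ M)
  | 0, M, _ => Groth.LocFree.isFinLocFreeOfRank_of_iso (Sigma.mapIso fun i => i.elim0)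
      (Groth.LocFree.isFinLocFreeOfRank_freeMod X 0)
  | n + 1, M, h => by
      have := Groth.LocFree.isFinLocFreeOfRank_biprod (h 0)
        (isFinLocFreeOfRank_sigma (fun i : Fin n => M i.succ) fun i => h i.succ)
      rw [Nat.add_comm 1 n] at this
      exact Groth.LocFree.isFinLocFreeOfRank_of_iso (sigmaSucc M).symm this

/-- Cohomology of a finite sum. -/
theorem subsingleton_sigma (k : Type u) [Field k] [X.Over (Spec (CommRingCat.of k))] (q : ℕ) :
    ∀ {n : ℕ} (M : Fin n → X.Modules), (∀ i, Subsingleton (Coh.HH X (M i) q)) →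
      Subsingleton (Coh.HH X (∐ M) q)
  | 0, M, _ => Groth.Variety2.Reg.subsingleton_of_isZero' k
      ((IsZero.iff_id_eq_zero _).2 (Sigma.hom_ext _ _ fun i => i.elim0)) q
  | n + 1, M, h => Groth.Variety2.Reg.subsingleton_of_iso k (sigmaSucc M).symm
      (Groth.Variety2.Reg.subsingleton_biprod k (h 0)
        (subsingleton_sigma k q (fun i : Fin n => M i.succ) fun i => h i.succ))

end Groth.PnHyper
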