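import Groth.Agent.ArtfunDeform.VbLift.Basic
import Groth.Agent.Variety2.ZeroScheme
import Groth.Agent.PicAux.Pullback

/-!
# Restriction sequences of locally free modules along closed immersions
-/

set_option autoImplicit false

noncomputable section

universe u

open CategoryTheory CategoryTheory.Limits AlgebraicGeometry TopologicalSpace Opposite
open Groth.CohTwo.LocFreeExt (tR)
open Groth.Misc7.ClosedImm Groth.ArtfunDeform.VbLift
open Groth.PicAux

namespace Groth.PnHyper

variable {X Z : Scheme.{u}}

theorem isEquivalence_pullback {X Y : Scheme.{u}} (e : X ⟶ Y) [IsIso e] :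
    (Scheme.Modules.pullback e).IsEquivalence := by
  have hu : IsIso (Scheme.Modules.restrictAdjunction e).unit := by
    have : ∀ M : Y.Modules, IsIso ((Scheme.Modules.restrictAdjunction e).unit.app M) := fun M => by
      rw [Scheme.Modules.Hom.isIso_iff_isIso_app]
      intro U
      rw [Scheme.Modules.restrictAdjunction_unit_app_app]
      have hU : e ''ᵁ (e ⁻¹ᵁ U) = U := by
        rw [Scheme.Hom.image_preimage_eq_opensRange_inf, Scheme.Hom.opensRange_of_isIso, top_inf_eq]
      have hi : IsIso (homOfLE (Scheme.Hom.image_preimage_le e U)) :=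
        ⟨homOfLE hU.ge, Subsingleton.elim _ _, Subsingleton.elim _ _⟩
      exact (M.presheaf).map_isIso (homOfLE (Scheme.Hom.image_preimage_le e U)).op
    exact NatIso.isIso_of_isIso_app _
  have : (Scheme.Modules.restrictFunctor e).IsEquivalence :=
    (Scheme.Modules.restrictAdjunction e).toEquivalence.isEquivalence_functor
  exact Functor.isEquivalence_of_iso (Scheme.Modules.restrictFunctorIsoPullback e)

/-- `0 → I ⊗ F → F → ι_* ι^* F → 0` for the closed subscheme of an ideal. -/
theorem exists_subschemeSeq (I : X.IdealSheafData) {F : X.Modules} (hF : FlatMod.IsFinLocFree F) :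
    ∃ S : ShortComplex X.Modules, S.ShortExact ∧
      Nonempty (S.X₁ ≅ CohB1.tensorMod (ClSub.idealMod I) F) ∧ Nonempty (S.X₂ ≅ F) ∧
      Nonempty (S.X₃ ≅ (Scheme.Modules.pushforward I.subschemeι).obj
        ((Scheme.Modules.pullback I.subschemeι).obj F)) := by
  let A := Scheme.Modules.pullbackPushforwardAdjunction I.subschemeι
  let P := Scheme.Modules.pullback I.subschemeι
  let S₀ := ShortComplex.mk (ClSub.idealModι I) (ClSub.toSubscheme I)
    (kernel.condition (ClSub.toSubscheme I))
  let S := S₀.map (tR F)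
  have hS : S.ShortExact := shortExact_tensor hF (Groth.PicAux.shortExact_idealMod I)
  have hk₃ : Killed I.subschemeι S.X₃ := killed_tensor_left I.subschemeι (killed_push I.subschemeι _) F
  obtain ⟨e, -⟩ := Groth.PicAux.exists_leftUnitor F
  have : P.Additive := A.left_adjoint_additive
  have hf0 : P.map S.f = 0 := by
    have h := (pullTensorIso I.subschemeι F).hom.naturality (ClSub.idealModι I)
    have h0 : (tR (P.obj F)).map (P.map (ClSub.idealModι I)) = 0 := by
      rw [pull_idealModι]
      have := Groth.CohTwo.LocFreeExt.additive_tR (P.obj F)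
      exact (tR (P.obj F)).map_zero _ _
    change P.map ((tR F).map (ClSub.idealModι I)) = 0
    rw [← cancel_mono ((pullTensorIso I.subschemeι F).hom.app (Coh.structureModule X)), zero_comp]
    refine h.trans ?_
    change _ ≫ (tR (P.obj F)).map (P.map (ClSub.idealModι I)) = 0
    rw [h0, comp_zero]
  have : PreservesColimitsOfSize.{0, 0} P := A.leftAdjoint_preservesColimits
  have := hS.epi_g
  have hex : (S.map P).Exact := hS.exact.map_of_epi_of_preservesCokernel _ inferInstance inferInstance
  have : Mono (P.map S.g) := hex.mono_g hf0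
  have : Epi (P.map S.g) := P.map_epi S.g
  have : IsIso (P.map S.g) := isIso_of_mono_of_epi _
  have hu := isIso_unit I.subschemeι hk₃
  refine ⟨S, hS, ⟨Iso.refl _⟩, ⟨e⟩, ⟨@asIso _ _ _ _ (A.unit.app S.X₃) hu ≪≫
    (Scheme.Modules.pushforward I.subschemeι).mapIso ((asIso (P.map S.g)).symm ≪≫ P.mapIso e)⟩⟩

/-- `0 → I ⊗ F → F → h_* h^* F → 0` for a closed immersion `h` with ideal `I`. -/
theorem exists_restrictionSeq (h : Z ⟶ X) [IsClosedImmersion h] {F : X.Modules}
    (hF : FlatMod.IsFinLocFree F) :
    ∃ S : ShortComplex X.Modules, S.ShortExact ∧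
      Nonempty (S.X₁ ≅ CohB1.tensorMod (ClSub.idealMod h.ker) F) ∧ Nonempty (S.X₂ ≅ F) ∧
      Nonempty (S.X₃ ≅ (Scheme.Modules.pushforward h).obj
        ((Scheme.Modules.pullback h).obj F)) := by
  obtain ⟨S, hS, e1, e2, ⟨e3⟩⟩ := exists_subschemeSeq h.ker hF
  let e := h.toImage
  let ι := h.ker.subschemeι
  have he : e ≫ ι = h := Scheme.Hom.toImage_imageι _
  haveI : IsIso e := inferInstanceAs (IsIso h.toImage)
  let G := (Scheme.Modules.pullback ι).obj F
  have hu : IsIso ((Scheme.Modules.pullbackPushforwardAdjunction e).unit.app G) := by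
    haveI : (Scheme.Modules.pullback e).IsEquivalence :=
      isEquivalence_pullback e
    haveI := (Scheme.Modules.pullbackPushforwardAdjunction e).isEquivalence_right_of_isEquivalence_left
    infer_instance
  refine ⟨S, hS, e1, e2, ⟨e3 ≪≫ (Scheme.Modules.pushforward ι).mapIso (@asIso _ _ _ _ _ hu) ≪≫
    (Scheme.Modules.pushforwardComp e ι).app _ ≪≫
    (Scheme.Modules.pushforward (e ≫ ι)).mapIso ((Scheme.Modules.pullbackComp e ι).app F) ≪≫
    eqToIso (by rw [he])⟩⟩

/-- A closed immersion killing a section of an invertible module lands in its zero scheme. -/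
theorem zeroScheme_le_ker (i : Z ⟶ X) [QuasiCompact i] {L : X.Modules} (hL : PicF.IsInvertible L)
    (s : Coh.structureModule X ⟶ L) (h0 : pullSec i L (Variety2.Zero.val L s ⊤) = 0) :
    PicF2.zeroScheme L s ≤ i.ker := by
  have key : ∀ x : X, ∃ U : X.affineOpens, x ∈ U.1 ∧ ∃ e : Γ(L, U.1), Gen L U.1 e := fun x => by
    obtain ⟨V, e, hxV, he⟩ := (isInvertible_iff_exists_gen L).1 hL x
    obtain ⟨_, ⟨W, hW, rfl⟩, hxW, hWV⟩ := X.isBasis_affineOpens.exists_subset_of_mem_open hxV V.2
    exact ⟨⟨W, hW⟩, hxW, _, he.res (show W ≤ V from hWV)⟩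
  choose U hxU e he using key
  refine Scheme.IdealSheafData.le_of_iSup_eq_top (U := U) ?_ fun x => ?_
  · exact eq_top_iff.2 fun x _ => Opens.mem_iSup.2 ⟨x, hxU x⟩
  obtain ⟨c, hc⟩ := ((he x) (U x).1 le_rfl).2 (Variety2.Zero.val L s (U x).1)
  have hc' : c • e x = Variety2.Zero.val L s (U x).1 := by simpa [res_self] using hc
  rw [Variety2.Zero.zeroScheme_ideal_eq_span hL s (U x) (he x) (c := c) hc'.symm, Scheme.Hom.ker_apply,
    Ideal.span_le, Set.singleton_subset_iff, SetLike.mem_coe, RingHom.mem_ker]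
  have h1 := congrArg (res _ (i.preimage_mono (le_top : (U x).1 ≤ ⊤))) h0
  rw [res_pullSec (f := i) L (le_top : (U x).1 ≤ ⊤), res_zero, Variety2.Zero.res_val, ← hc', pullSec_smul] at h1
  refine ((Gen.pull (f := i) (he x)) _ le_rfl).1 ?_
  simp only [res_self, zero_smul]
  exact h1

end Groth.PnHyper
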