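import Groth.Agent.PnHyper.Seq
import Groth.Agent.PnEuler.LinRestrict
import Groth.Agent.VarietyBC.Hyperplane
import Groth.Agent.PicAux.EffCartierSection
import Groth.Agent.PnCoh.PullTwist
import Groth.Agent.Ega2Proj2.ProjLoc
import Groth.Agent.CohC3.ProperSupport
import Groth.Agent.Variety2.Reg.Cohom
import Groth.Agent.Curves1.RR.GenusZeroP1
import Groth.Agent.PlaneCurve.HypIdeal
import Groth.Agent.PnCoh.TwistSplit

/-!
# Hyperplanes in projective space and restriction of bundles to them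
-/

set_option autoImplicit false

noncomputable section

universe u

open CategoryTheory CategoryTheory.Limits AlgebraicGeometry Opposite TopologicalSpace MvPolynomial
open Groth.PicAux Groth.Ega2Proj

namespace Groth.PnHyper

variable {k : Type u} [Field k]

local notation "O[" n "](" d ")" => Twist.twistProjSpace n k d

theorem pullback_inv_twist {m n : ℕ} (i : CohB1.ProjSpace m k ⟶ CohB1.ProjSpace n k)
    (hO : Nonempty ((Scheme.Modules.pullback i).obj O[n](1) ≅ O[m](1))) :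
    Nonempty ((Scheme.Modules.pullback i).obj O[n](-1) ≅ O[m](-1)) := by
  obtain ⟨e⟩ := hO
  have h := isInverseOf_pullback i (Groth.Duality.Pn.isInverseOf_twist n k 1)
  obtain ⟨t⟩ := Groth.Duality.Pn.isInverseOf_twist m k 1
  exact isInverseOf_unique h ⟨PicGrp.tensorModIso e (Iso.refl _) ≪≫ t⟩

/-- Constants pull back to constants. -/
theorem app_scal {m n : ℕ} (i : CohB1.ProjSpace m k ⟶ CohB1.ProjSpace n k)
    (hi : i ≫ CohB1.ProjSpace.toSpec n k = CohB1.ProjSpace.toSpec m k)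
    (U : (CohB1.ProjSpace n k).Opens) (c : k) :
    (i.app U).hom (PnEuler.scal U c) = PnEuler.scal (i ⁻¹ᵁ U) c := by
  have h : (CohB1.ProjSpace.toSpec n k).appLE ⊤ U le_top ≫ i.app U =
      (CohB1.ProjSpace.toSpec m k).appLE ⊤ (i ⁻¹ᵁ U) le_top := by
    rw [Scheme.Hom.app_eq_appLE, Scheme.Hom.appLE_comp_appLE]
    congr 1
  exact congr($h ((Scheme.ΓSpecIso (CommRingCat.of k)).inv c))

/-- The form of a linear combination of variables as a section of `O(1)`. -/
def linSec {N : ℕ} (c : Fin (N + 1) → k) : Γ(O[N](1), ⊤) :=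
  PlaneCurve.formSec (d := 1) ⟨∑ j, C (c j) * X j, (mem_homogeneousSubmodule _ _).2
    (IsHomogeneous.sum _ _ _ fun j _ => (isHomogeneous_X k j).C_mul _)⟩

theorem val_linSec {N : ℕ} (c : Fin (N + 1) → k) (x : ProjectiveSpectrum (CohB1.polyGrading N k)) :
    PnEuler.val (linSec c) x trivial =
      algebraMap _ (Twist.Loc (CohB1.polyGrading N k) x) (∑ j, C (c j) * X j) :=
  Localization.mk_one_eq_algebraMap _

theorem val_zero {N : ℕ} {d : ℤ} {U : (CohB1.ProjSpace N k).Opens} (x : ProjectiveSpectrum (CohB1.polyGrading N k))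
    (hx : x ∈ U) : PnEuler.val (0 : Γ(O[N](d), U)) x hx = 0 := rfl

theorem linSec_eq_sum {N : ℕ} (c : Fin (N + 1) → k) :
    linSec c = ∑ j : Fin (N + 1), PnEuler.scal (n := N) ⊤ (c j) • linSec (Pi.single j (1 : k)) := by
  classical
  refine PnEuler.val_ext fun x hx => ?_
  rw [PnEuler.val_sum, val_linSec, map_sum]
  refine Finset.sum_congr rfl fun j _ => ?_
  rw [PnEuler.val_smul, PnEuler.evalPt_scal, val_linSec, ← map_mul,
    Finset.sum_eq_single j (fun b _ hb => by rw [Pi.single_eq_of_ne hb, map_zero, zero_mul])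
      (fun h => absurd (Finset.mem_univ _) h), Pi.single_eq_same, map_one, one_mul]

theorem linSec_ne_zero {N : ℕ} {c : Fin (N + 1) → k} (hc : c ≠ 0) : linSec c ≠ 0 := by
  classical
  obtain ⟨p, hp⟩ := Function.ne_iff.1 hc
  intro h
  let x : ProjectiveSpectrum (CohB1.polyGrading N k) := genericPoint (CohB1.ProjSpace N k)
  have h1 := congrArg (fun s => PnEuler.val (U := ⊤) (s : Γ(O[N](1), ⊤)) x trivial) h
  rw [val_linSec] at h1
  have h2 : (∑ j, C (c j) * X j : MvPolynomial (Fin (N + 1)) k) = 0 := by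
    refine IsLocalization.injective (Twist.Loc (CohB1.polyGrading N k) x)
      (show x.asHomogeneousIdeal.toIdeal.primeCompl ≤ nonZeroDivisors _ from
        fun a ha => mem_nonZeroDivisors_of_ne_zero fun h0 => ha (h0 ▸ Ideal.zero_mem _)) (h1.trans ?_)
    exact (val_zero x _).trans (map_zero _).symm
  have h3 := congrArg (coeff (Finsupp.single p 1)) h2
  simp only [coeff_sum, coeff_C_mul, coeff_X, coeff_zero] at h3
  rw [Finset.sum_eq_single p (fun b _ hb => by
    rw [if_neg (fun e => hb (Finsupp.single_left_injective one_ne_zero e)), mul_zero])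
    (fun h => absurd (Finset.mem_univ _) h), if_pos rfl, mul_one] at h3
  exact hp h3

/-- Some nonzero linear form vanishes on a linear subspace of smaller dimension. -/
theorem exists_linSec_pull_eq_zero {m N : ℕ} (hm : 1 ≤ m) (hmN : m < N)
    (i : CohB1.ProjSpace m k ⟶ CohB1.ProjSpace N k)
    (hi : i ≫ CohB1.ProjSpace.toSpec N k = CohB1.ProjSpace.toSpec m k)
    (hO : Nonempty ((Scheme.Modules.pullback i).obj O[N](1) ≅ O[m](1))) :
    ∃ c : Fin (N + 1) → k, c ≠ 0 ∧ pullSec i O[N](1) (linSec c) = 0 := by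
  classical
  obtain ⟨e⟩ := hO
  choose f hf hfval using fun l : Fin (N + 1) => VarietyBC.Hyperplane.exists_linearForm hm
    (show Γ(O[m](1), ⊤) from e.hom.app (i ⁻¹ᵁ ⊤) (pullSec i O[N](1) (linSec (Pi.single l (1 : k)))))
  let C' : (Fin (N + 1) → k) →ₗ[k] (Fin (m + 1) → k) :=
    Fintype.linearCombination k fun l a => (f l).coeff (Finsupp.single a 1)
  have hker : LinearMap.ker C' ≠ ⊥ := fun h => by
    have := LinearMap.finrank_le_finrank_of_injective (LinearMap.ker_eq_bot.1 h)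
    simp at this
    omega
  obtain ⟨c, hc, hc0⟩ := Submodule.exists_mem_ne_zero_of_ne_bot hker
  refine ⟨c, hc0, ?_⟩
  have hsum : ∑ l, MvPolynomial.C (c l) * f l = 0 := by
    calc ∑ l, MvPolynomial.C (c l) * f l
        = ∑ l, ∑ a, MvPolynomial.C (c l) * (C ((f l).coeff (Finsupp.single a 1)) * X a) :=
          Finset.sum_congr rfl fun l _ => by
            conv_lhs => rw [PnEuler.linear_form_eq ((mem_homogeneousSubmodule _ _).1 (hf l))]
            rw [Finset.mul_sum]
      _ = 0 := ?_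
    rw [Finset.sum_comm]
    refine Finset.sum_eq_zero fun a _ => ?_
    simp only [← mul_assoc, ← map_mul, ← Finset.sum_mul, ← map_sum]
    have h1 : ∑ l, c l * (f l).coeff (Finsupp.single a 1) = 0 := by
      have := congrFun (LinearMap.mem_ker.1 hc) a
      simpa [C', Fintype.linearCombination_apply, smul_eq_mul] using this
    rw [h1, map_zero, zero_mul]
  have hz : e.hom.app (i ⁻¹ᵁ ⊤) (pullSec i O[N](1) (linSec c)) = 0 := by
    rw [linSec_eq_sum, show pullSec i O[N](1) (∑ j, PnEuler.scal ⊤ (c j) • linSec (Pi.single j (1 : k))) =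
        ∑ j, pullSec i O[N](1) (PnEuler.scal ⊤ (c j) • linSec (Pi.single j (1 : k))) from
      map_sum ((Scheme.Modules.pullbackPushforwardAdjunction i).unit.app O[N](1) |>.app ⊤).hom _ _,
      map_sum]
    refine PnEuler.val_ext fun x hx => ?_
    refine (PnEuler.val_sum _ _ x hx).trans ?_
    have h0 : PnEuler.val (0 : Γ(O[m](1), ⊤)) x hx = 0 := val_zero x hx
    refine Eq.trans ?_ h0.symm
    rw [← map_zero (algebraMap (MvPolynomial (Fin (m + 1)) k) (Twist.Loc (CohB1.polyGrading m k) x)),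
      ← hsum, map_sum]
    refine Finset.sum_congr rfl fun l _ => ?_
    rw [pullSec_smul, app_scal i hi, Scheme.Modules.Hom.app_smul, map_mul]
    refine (PnEuler.val_smul _ _ x hx).trans ?_
    rw [PnEuler.evalPt_scal]
    exact congrArg _ ((hfval l x hx).trans (Localization.mk_one_eq_algebraMap _))
  exact (ConcreteCategory.bijective_of_isIso (e.hom.app (i ⁻¹ᵁ ⊤))).1 (hz.trans (map_zero _).symm)

/-- The hyperplane of a nonzero linear form. -/
theorem exists_hyperplane {N : ℕ} (c : Fin (N + 1 + 1) → k) (hc : c ≠ 0) :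
    ∃ h : CohB1.ProjSpace N k ⟶ CohB1.ProjSpace (N + 1) k, IsClosedImmersion h ∧
      h ≫ CohB1.ProjSpace.toSpec (N + 1) k = CohB1.ProjSpace.toSpec N k ∧
      h.ker = PicF2.zeroScheme O[N + 1](1) (homOfSection (linSec c)) ∧
      Nonempty (ClSub.idealMod h.ker ≅ O[N + 1](-1)) ∧
      ∀ d : ℤ, Nonempty ((Scheme.Modules.pullback h).obj O[N + 1](d) ≅ O[N](d)) := by
  obtain ⟨p, hp⟩ := Function.ne_iff.1 hc
  haveI := Groth.Curves1.RR.isIntegral_projSpace k (N + 1)
  let s := homOfSection (linSec c)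
  have hs : ∀ x, Groth.Ega2Proj.wval (Groth.Variety2.Zero.val _ s ⊤) x trivial =
      lfrac (CohB1.polyGrading (N + 1) k) x (VarietyBC.Hyperplane.form N c) (h := 1)
        (fun h => x.isPrime.ne_top ((Ideal.eq_top_iff_one _).2 h)) := fun x => by
    exact congrArg (fun t : Γ(O[N + 1](1), ⊤) => PnEuler.val t x trivial) (homOfSection_one (linSec c)) |>.trans
      ((val_linSec c x).trans (Localization.mk_one_eq_algebraMap _).symm)
  have hker := VarietyBC.Hyperplane.ker_emb N c p hp s hs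
  refine ⟨VarietyBC.Hyperplane.emb N c p, inferInstanceAs (IsClosedImmersion (VarietyBC.Hyperplane.emb N c p)),
    ?_, hker, ?_, fun d => ?_⟩
  · exact toSpec_map N c p
  · have hne : s ≠ 0 := fun h => linSec_ne_zero hc ((homOfSection_one (linSec c)).symm.trans
      (congr(($h).app ⊤ (oneSec _ ⊤)).trans rfl))
    have hinv := Groth.PnCoh.isInvertible_twist (N + 1) k 1
    have h1 := isInverseOf_zeroScheme hinv (regularSection_of_ne_zero hinv hne)
    exact (congrArg (fun I => Nonempty (ClSub.idealMod I ≅ O[N + 1](-1))) hker).mpr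
      (isInverseOf_unique h1 (Groth.Duality.Pn.isInverseOf_twist (N + 1) k 1))
  · exact Groth.PnCoh.nonempty_pullback_twist_iso_of_gen _ _
      (Groth.PnCoh.irrelevant_le_span_one (N + 1) k) d
where
  toSpec_map (n : ℕ) (c : Fin (n + 1 + 1) → k) (p : Fin (n + 1 + 1)) :
      VarietyBC.Hyperplane.emb n c p ≫ CohB1.ProjSpace.toSpec (n + 1) k = CohB1.ProjSpace.toSpec n k := by
    change Proj.map _ _ ≫ Proj.toSpecZero _ ≫ Spec.map _ = Proj.toSpecZero _ ≫ Spec.map _
    rw [← Category.assoc, Groth.Ega2P2.map_toSpecZero, Category.assoc, ← Spec.map_comp,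
      ← CommRingCat.ofHom_comp]
    congr 3
    refine RingHom.ext fun a => Subtype.ext ?_
    exact (VarietyBC.Hyperplane.elim n c p).commutes a

/-- A linear subspace of smaller dimension lies in a hyperplane. -/
theorem exists_factor {m N : ℕ} (hm : 1 ≤ m) (hmN : m ≤ N)
    (i : CohB1.ProjSpace m k ⟶ CohB1.ProjSpace (N + 1) k) [IsClosedImmersion i]
    (hi : i ≫ CohB1.ProjSpace.toSpec (N + 1) k = CohB1.ProjSpace.toSpec m k)
    (hO : Nonempty ((Scheme.Modules.pullback i).obj O[N + 1](1) ≅ O[m](1))) :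
    ∃ (h : CohB1.ProjSpace N k ⟶ CohB1.ProjSpace (N + 1) k) (i' : CohB1.ProjSpace m k ⟶ CohB1.ProjSpace N k),
      IsClosedImmersion h ∧ IsClosedImmersion i' ∧ i' ≫ h = i ∧
      h ≫ CohB1.ProjSpace.toSpec (N + 1) k = CohB1.ProjSpace.toSpec N k ∧
      i' ≫ CohB1.ProjSpace.toSpec N k = CohB1.ProjSpace.toSpec m k ∧
      Nonempty (ClSub.idealMod h.ker ≅ O[N + 1](-1)) ∧
      (∀ d : ℤ, Nonempty ((Scheme.Modules.pullback h).obj O[N + 1](d) ≅ O[N](d))) ∧
      Nonempty ((Scheme.Modules.pullback i').obj O[N](1) ≅ O[m](1)) := by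
  obtain ⟨c, hc, hz⟩ := exists_linSec_pull_eq_zero hm (Nat.lt_succ_of_le hmN) i hi hO
  obtain ⟨h, hh, hhk, hker, hI, htw⟩ := exists_hyperplane c hc
  have hle : h.ker ≤ i.ker := by
    rw [hker]
    refine zeroScheme_le_ker i (Groth.PnCoh.isInvertible_twist (N + 1) k 1) _ ?_
    rw [show Variety2.Zero.val _ (homOfSection (linSec c)) ⊤ = linSec c from homOfSection_one _]
    exact hz
  let i' := IsClosedImmersion.lift h i hle
  have hf : i' ≫ h = i := IsClosedImmersion.lift_fac h i hle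
  haveI : IsClosedImmersion (i' ≫ h) := hf ▸ inferInstance
  refine ⟨h, i', hh, IsClosedImmersion.of_comp i' h, hf, hhk, ?_, hI, htw, ?_⟩
  · rw [← hhk, ← Category.assoc, hf, hi]
  · obtain ⟨e⟩ := htw 1
    obtain ⟨e'⟩ := hO
    exact ⟨(Scheme.Modules.pullback i').mapIso e.symm ≪≫ (Scheme.Modules.pullbackComp i' h).app _ ≪≫
      eqToIso (by rw [hf]) ≪≫ e'⟩

/-- `0 → E(d-1) → E(d) → h_*(h^*E(d)) → 0`. -/
theorem exists_twistSeq {N : ℕ} (h : CohB1.ProjSpace N k ⟶ CohB1.ProjSpace (N + 1) k) [IsClosedImmersion h]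
    (hI : Nonempty (ClSub.idealMod h.ker ≅ O[N + 1](-1)))
    (htw : ∀ d : ℤ, Nonempty ((Scheme.Modules.pullback h).obj O[N + 1](d) ≅ O[N](d)))
    {E : (CohB1.ProjSpace (N + 1) k).Modules} (hE : FlatMod.IsFinLocFree E) (d : ℤ) :
    ∃ S : ShortComplex (CohB1.ProjSpace (N + 1) k).Modules, S.ShortExact ∧
      Nonempty (S.X₁ ≅ CohB1.tensorMod E O[N + 1](d - 1)) ∧
      Nonempty (S.X₂ ≅ CohB1.tensorMod E O[N + 1](d)) ∧
      Nonempty (S.X₃ ≅ (Scheme.Modules.pushforward h).obj
        (CohB1.tensorMod ((Scheme.Modules.pullback h).obj E) O[N](d))) := by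
  have hF : FlatMod.IsFinLocFree (CohB1.tensorMod E O[N + 1](d)) :=
    Groth.LocFree.isFinLocFree_tensorMod hE (Groth.LocFree.isFinLocFree_of_rank
      (Groth.LocFree.isInvertible_iff_ofRank_one.1 (Groth.PnCoh.isInvertible_twist (N + 1) k d)))
  obtain ⟨S, hS, ⟨e1⟩, ⟨e2⟩, ⟨e3⟩⟩ := exists_restrictionSeq h hF
  obtain ⟨eI⟩ := hI
  obtain ⟨et⟩ := Groth.Duality.Pn.nonempty_twist_tensor (N + 1) k d (-1)
  obtain ⟨as, -⟩ := exists_associator E O[N + 1](d) O[N + 1](-1)
  obtain ⟨ec, -⟩ := exists_braiding (ClSub.idealMod h.ker) (CohB1.tensorMod E O[N + 1](d))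
  obtain ⟨ed⟩ := htw d
  obtain ⟨ep, -⟩ := exists_pullback_tensorMod h E O[N + 1](d)
  exact ⟨S, hS, ⟨e1 ≪≫ ec ≪≫ PicGrp.tensorModIso (Iso.refl _) eI ≪≫ as ≪≫
      PicGrp.tensorModIso (Iso.refl _) (et ≪≫ eqToIso (by rw [sub_eq_add_neg]))⟩, ⟨e2⟩,
    ⟨e3 ≪≫ (Scheme.Modules.pushforward h).mapIso (ep ≪≫ PicGrp.tensorModIso (Iso.refl _) ed)⟩⟩

/-- Cohomology of a direct image under a closed immersion of projective spaces. -/
theorem subsingleton_push_iff {m N : ℕ} (h : CohB1.ProjSpace m k ⟶ CohB1.ProjSpace N k) [IsClosedImmersion h]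
    (q : ℕ) (M : (CohB1.ProjSpace m k).Modules) :
    Subsingleton (Coh.HH (CohB1.ProjSpace N k) ((Scheme.Modules.pushforward h).obj M) q) ↔
      Subsingleton (Coh.HH (CohB1.ProjSpace m k) M q) := by
  obtain ⟨e⟩ := Groth.CohC3.nonempty_linearEquiv_push_closed h (CohB1.ProjSpace.toSpec N k) q M
  exact e.toEquiv.subsingleton_congr

end Groth.PnHyper
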