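import Groth.Agent.PnHyper.Horrocks
import Groth.Agent.PnEuler.LinRestrict
import Groth.Agent.CiFields.Basic
import Groth.Agent.S11510
import Groth.Agent.Duality.PnMulPoly

/-!
# A line subbundle of a small sum of twists is a summand
-/

set_option autoImplicit false

noncomputable section

universe u

open CategoryTheory CategoryTheory.Limits AlgebraicGeometry MvPolynomial Opposite TopologicalSpace
open Groth.PicAux Groth.Ega2Proj

namespace Groth.PnHyper

/-- A point of projective space at which all forms vanishing at `w` vanish. -/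
theorem exists_point_forms {m : ℕ} {k : Type u} [Field k] (w : Fin (m + 1) → k) (hw : w ≠ 0) :
    ∃ x : ProjectiveSpectrum (CohB1.polyGrading m k), ∀ (d : ℕ) (f : MvPolynomial (Fin (m + 1)) k),
      f.IsHomogeneous d → MvPolynomial.eval w f = 0 → f ∈ x.asHomogeneousIdeal := by
  obtain ⟨j, hj⟩ := Function.ne_iff.1 hw
  let ψ : MvPolynomial (Fin (m + 1)) k →ₐ[k] Polynomial k :=
    aeval fun a => Polynomial.C (w a) * Polynomial.X
  have hψ : ∀ (d : ℕ) (f : MvPolynomial (Fin (m + 1)) k), f.IsHomogeneous d →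
      ψ f = Polynomial.C (MvPolynomial.eval w f) * Polynomial.X ^ d := fun d f hf => by
    conv_lhs => rw [f.as_sum]
    conv_rhs => rw [f.as_sum]
    rw [map_sum, map_sum, map_sum, Finset.sum_mul]
    refine Finset.sum_congr rfl fun e he => ?_
    have hdeg : e.degree = d := by
      rw [Finsupp.degree_eq_weight_one]
      exact hf (mem_support_iff.1 he)
    simp only [ψ, aeval_monomial, eval_monomial, map_mul, map_pow, Finsupp.prod, mul_pow, map_prod,
      Polynomial.algebraMap_eq, Finset.prod_mul_distrib, Finset.prod_pow_eq_pow_sum]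
    rw [show (∑ a ∈ e.support, e a) = d from hdeg]
    ring
  have hhom : (RingHom.ker ψ).IsHomogeneous (CohB1.polyGrading m k) := by
    intro d f hf
    rw [RingHom.mem_ker] at hf ⊢
    change ψ (MvPolynomial.decomposition.decompose' f d : MvPolynomial (Fin (m + 1)) k) = 0
    rw [MvPolynomial.decomposition.decompose'_apply]
    rw [hψ d _ (homogeneousComponent_isHomogeneous d f)]
    have h1 : ψ f = ∑ e ∈ Finset.range (f.totalDegree + 1),
        Polynomial.C (MvPolynomial.eval w (homogeneousComponent e f)) * Polynomial.X ^ e := by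
      conv_lhs => rw [← sum_homogeneousComponent f, map_sum]
      exact Finset.sum_congr rfl fun e _ => hψ e _ (homogeneousComponent_isHomogeneous e f)
    by_cases hd : d ∈ Finset.range (f.totalDegree + 1)
    · have h2 := congrArg (fun P => Polynomial.coeff P d) (h1.symm.trans hf)
      simp only [Polynomial.finsetSum_coeff, Polynomial.coeff_C_mul_X_pow, Polynomial.coeff_zero,
        Finset.sum_ite_eq, if_pos hd] at h2
      rw [h2, map_zero, zero_mul]
    · rw [homogeneousComponent_eq_zero _ _ (by simpa using hd), map_zero, map_zero, zero_mul]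
  refine ⟨Variety2.PSpace.mkPt (RingHom.ker ψ) hhom (RingHom.ker_isPrime _) (i := j) ?_, fun d f hf h0 => ?_⟩
  · rw [RingHom.mem_ker]
    simp only [ψ, aeval_X, mul_eq_zero, Polynomial.C_eq_zero, Polynomial.X_ne_zero, or_false]
    exact hj
  · change f ∈ RingHom.ker ψ
    rw [RingHom.mem_ker, hψ d f hf, h0, map_zero, zero_mul]

variable {n : ℕ} {k : Type u} [Field k]

local notation "O(" d ")" => Twist.twistProjSpace n k d

/-- A morphism `O(a) → O(b)` given by a form which vanishes at `x` vanishes in the fibre at `x`. -/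
theorem stalk_mem_smul {a b : ℤ} {q : ℕ} (hq : b = a + q) {f : MvPolynomial (Fin (n + 1)) k}
    (hf : f ∈ CohB1.polyGrading n k q) (φ : O(a) ⟶ O(b))
    (hφ : φ = Groth.Duality.Pn.mulEl (CohB1.polyGrading n k) hf hq)
    (x : ↥(CohB1.ProjSpace n k))
    (hfx : f ∈ (show ProjectiveSpectrum (CohB1.polyGrading n k) from x).asHomogeneousIdeal)
    (t : (Twist.twistProjSpace n k a).presheaf.stalk x) :
    KTheory.LocFree.stalkₗ φ x t ∈
      IsLocalRing.maximalIdeal ((CohB1.ProjSpace n k).presheaf.stalk x) •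
        (⊤ : Submodule ((CohB1.ProjSpace n k).presheaf.stalk x) ((Twist.twistProjSpace n k b).presheaf.stalk x)) := by
  obtain ⟨U, hxU, s, rfl⟩ := Groth.QCohMod.exists_germ _ _ t
  obtain ⟨i, hi⟩ := Groth.Variety2.PSpace.exists_X_notMem (show ProjectiveSpectrum (CohB1.polyGrading n k) from x)
  let W : (CohB1.ProjSpace n k).Opens := U ⊓ PnEuler.dOp i
  have hxW : x ∈ W := ⟨hxU, hi⟩
  let e : Γ(O(b), W) := pwSec (Groth.Chow.ToPn.X_mem i) b (by simp) fun _ hy => hy.2
  obtain ⟨r₀, hr⟩ := (gen_pwSec (Groth.Chow.ToPn.X_mem (R := k) i) b (by simp) (U := W)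
    (fun _ hy => hy.2) W le_rfl).2 (φ.app W (res _ inf_le_left s))
  let r : Γ(CohB1.ProjSpace n k, W) := r₀
  have hr' : r • e = φ.app W (res _ inf_le_left s) := (congrArg (r • ·) (res_self _ _).symm).trans hr
  have hgerm : KTheory.LocFree.stalkₗ φ x
      (Groth.QCohMod.germ _ _ hxU s) =
      ((CohB1.ProjSpace n k).presheaf.germ W x hxW r) • Groth.QCohMod.germ _ _ hxW e := by
    rw [← Groth.QCohMod.germ_res _ (inf_le_left : W ≤ U) _ hxW s]
    refine (Groth.QCohMod.stalk_map_germ φ _ hxW _).trans ?_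
    erw [← hr']
    exact Groth.QCohMod.germ_smul _ _ hxW r e
  rw [hgerm]
  refine Submodule.smul_mem_smul ?_ trivial
  rw [IsLocalRing.mem_maximalIdeal, mem_nonunits_iff]
  intro hu
  obtain ⟨V, hxV, r', h1⟩ : ∃ (V : (CohB1.ProjSpace n k).Opens) (hxV : x ∈ V)
      (r' : Γ(CohB1.ProjSpace n k, V)), (CohB1.ProjSpace n k).presheaf.germ W x hxW r *
        (CohB1.ProjSpace n k).presheaf.germ V x hxV r' = 1 := by
    obtain ⟨v, hv⟩ := hu.exists_right_inv
    obtain ⟨V, hxV, r', rfl⟩ := TopCat.Presheaf.exists_germ_eq _ v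
    exact ⟨V, hxV, r', hv⟩
  have hxWV : x ∈ W ⊓ V := ⟨hxW, hxV⟩
  rw [← TopCat.Presheaf.germ_res_apply (CohB1.ProjSpace n k).presheaf (homOfLE (inf_le_left : W ⊓ V ≤ W)) x hxWV r,
    ← TopCat.Presheaf.germ_res_apply (CohB1.ProjSpace n k).presheaf (homOfLE (inf_le_right : W ⊓ V ≤ V)) x hxWV r',
    ← map_mul, ← map_one ((CohB1.ProjSpace n k).presheaf.germ (W ⊓ V) x hxWV).hom] at h1
  obtain ⟨V', hxV', i₁, i₂, he⟩ := TopCat.Presheaf.germ_eq (CohB1.ProjSpace n k).presheaf x hxWV hxWV _ _ h1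
  have h2 := congrArg (PnEuler.evalPt V' x hxV') he
  simp only [map_mul, map_one] at h2
  have hunit : IsUnit (PnEuler.evalPt W x hxW r) := IsUnit.of_mul_eq_one _ h2
  have h3 := congrArg (fun z => PnEuler.val z x hxW) hr'
  rw [PnEuler.val_smul, hφ] at h3
  replace h3 := h3.trans (Groth.Duality.Pn.wval_mulEl (CohB1.polyGrading n k) hf hq W (res _ inf_le_left s) x hxW)
  have h4 : PnEuler.evalPt W x hxW r * PnEuler.val e x hxW ∈
      IsLocalRing.maximalIdeal (Twist.Loc (CohB1.polyGrading n k) x) := by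
    rw [h3]
    refine Ideal.mul_mem_right _ _ ?_
    change Localization.mk _ _ ∈ _
    rw [Localization.mk_eq_mk']
    exact (IsLocalization.AtPrime.mk'_mem_maximal_iff _ x.asHomogeneousIdeal.toIdeal f _).2 hfx
  refine ((IsLocalRing.mem_maximalIdeal _).1 h4) (hunit.mul ?_)
  have he' : PnEuler.val e x hxW = ((funit (show ProjectiveSpectrum (CohB1.polyGrading n k) from x) (show X i ∉ _ from hxW.2) ^ b : (Twist.Loc (CohB1.polyGrading n k) x)ˣ) : Twist.Loc (CohB1.polyGrading n k) x) :=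
    wval_pwSec (Groth.Chow.ToPn.X_mem i) b (by simp) (U := W) (fun _ hy => hy.2) x hxW
  rw [he']
  exact Units.isUnit _

/-- A morphism `O(a) → O(a)` is zero or an isomorphism. -/
theorem eq_zero_or_isIso_endo (hn : 1 ≤ n) {a b : ℤ} (hab : b = a) (φ : O(a) ⟶ O(b)) :
    φ = 0 ∨ IsIso φ := by
  subst hab
  obtain ⟨c, hc⟩ := PnEuler.exists_hom_twist_eq_scal b φ
  rcases eq_or_ne c 0 with rfl | hne
  · left
    exact Groth.CohTwo.hom_ext_app fun U s => by rw [hc, map_zero, zero_smul]; rfl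
  · right
    refine ⟨Groth.HilbStab.scalar (PnEuler.scal ⊤ c⁻¹) _, ?_, ?_⟩ <;>
      refine Groth.CohTwo.hom_ext_app fun U s => ?_
    · change (Groth.HilbStab.scalar (PnEuler.scal ⊤ c⁻¹) (Twist.twistProjSpace n k b)).app U (φ.app U s) = s
      rw [PnEuler.scalar_scal_app, hc, smul_smul, ← map_mul, inv_mul_cancel₀ hne, map_one, one_smul]
    · change φ.app U ((Groth.HilbStab.scalar (PnEuler.scal ⊤ c⁻¹) (Twist.twistProjSpace n k b)).app U s) = s
      rw [hc, PnEuler.scalar_scal_app, smul_smul, ← map_mul, mul_inv_cancel₀ hne, map_one, one_smul]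

/-- Three components of a line subbundle: one of them is an isomorphism when `n ≥ 3`. -/
theorem exists_isIso_component [IsAlgClosed k] (hn : 3 ≤ n) {e : ℤ} (d : Fin 3 → ℤ)
    {S : ShortComplex (CohB1.ProjSpace n k).Modules} (hS : S.ShortExact) (h₃ : FlatMod.IsFinLocFree S.X₃)
    (e₁ : O(e) ≅ S.X₁) (p : ∀ j, S.X₂ ⟶ O(d j)) (i : ∀ j, O(d j) ⟶ S.X₂)
    (htot : ∑ j, p j ≫ i j = 𝟙 S.X₂) :
    ∃ j, IsIso (e₁.hom ≫ S.f ≫ p j) := by
  classical
  by_contra hno
  push Not at hno
  have hcomp : ∀ j, e₁.hom ≫ S.f ≫ p j ≠ 0 →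
      ∃ (q : ℕ) (hq : d j = e + q) (f : MvPolynomial (Fin (n + 1)) k) (hf : f ∈ CohB1.polyGrading n k q),
        0 < q ∧ e₁.hom ≫ S.f ≫ p j = Groth.Duality.Pn.mulEl (CohB1.polyGrading n k) hf hq := by
    intro j hne
    have hge : e ≤ d j := by
      by_contra hlt
      push Not at hlt
      refine hne (eq_zero_of_twist (Groth.PnCoh.isInvertible_twist n k (-e))
        (Groth.Duality.Pn.isInverseOf_twist n k e).some (fun t => ?_) _)
      obtain ⟨u⟩ := Groth.Duality.Pn.nonempty_twist_tensor n k (d j) (-e)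
      exact (cancel_mono u.hom).1
        ((Groth.Agent.S11510.hom_twist_eq_zero (by omega) (by omega) (t ≫ u.hom)).trans zero_comp.symm)
    have hne' : d j ≠ e := fun h => (eq_zero_or_isIso_endo (by omega) h _).elim hne (hno j)
    obtain ⟨q, hq⟩ : ∃ q : ℕ, d j = e + q := ⟨(d j - e).toNat, by omega⟩
    obtain ⟨f, hf, hfe⟩ := Groth.Duality.Pn.exists_eq_mulEl (n := n) (R := k) q hq (e₁.hom ≫ S.f ≫ p j)
    exact ⟨q, hq, f, hf, by omega, hfe⟩
  -- forms to be killed
  let G : Fin 3 → Σ q : ℕ, {f : MvPolynomial (Fin (n + 1)) k // f.IsHomogeneous q ∧ 0 < q} := fun j =>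
    if h : e₁.hom ≫ S.f ≫ p j ≠ 0 then
      ⟨(hcomp j h).choose, ⟨(hcomp j h).choose_spec.choose_spec.choose,
        (mem_homogeneousSubmodule _ _).1 (hcomp j h).choose_spec.choose_spec.choose_spec.choose,
        (hcomp j h).choose_spec.choose_spec.choose_spec.choose_spec.1⟩⟩
    else ⟨1, ⟨X 0, isHomogeneous_X k 0, one_pos⟩⟩
  obtain ⟨w, hw, hwG⟩ := Groth.CiFields.exists_zero_of_isCi (Groth.CiFields.isCi_zero_of_isAlgClosed k)
    (fun j => (G j).2.1) (fun j => (G j).1) (fun j => (G j).2.2.1) (fun j => (G j).2.2.2)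
    (by simp only [pow_zero, Finset.sum_const, Finset.card_univ, Fintype.card_fin, smul_eq_mul, mul_one]; omega)
  obtain ⟨x, hx⟩ := exists_point_forms w hw
  let y : ↥(CohB1.ProjSpace n k) := x
  let R := (CohB1.ProjSpace n k).presheaf.stalk y
  let m := IsLocalRing.maximalIdeal R
  have hT := Groth.LocFree.isInvertible_iff_ofRank_one.1 (Groth.PnCoh.isInvertible_twist n k e)
  have h₁ : FlatMod.IsFinLocFreeOfRank 1 S.X₁ := Groth.LocFree.isFinLocFreeOfRank_of_iso e₁ hT
  haveI := KTheory.LocFree.free_stalk h₃ y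
  haveI := Groth.LocFree.finite_stalk (Groth.LocFree.isFinLocFree_of_rank h₁) y
  obtain ⟨hinj, hex, hsurj⟩ := KTheory.LocFree.stalk_exact hS y
  obtain ⟨sec, hsec⟩ := Module.projective_lifting_property (KTheory.LocFree.stalkₗ S.g y) LinearMap.id hsurj
  obtain ⟨E', hE'1, -⟩ := hex.splitSurjectiveEquiv hinj ⟨sec, hsec⟩
  let ρ : S.X₂.presheaf.stalk y →ₗ[R] S.X₁.presheaf.stalk y := LinearMap.fst R _ _ ∘ₗ E'.toLinearMap
  have hρ : ∀ t, ρ (KTheory.LocFree.stalkₗ S.f y t) = t := fun t => by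
    have := LinearMap.congr_fun hE'1 t
    simp only [LinearMap.comp_apply, LinearEquiv.coe_coe] at this
    change (E' (KTheory.LocFree.stalkₗ S.f y t)).1 = t
    rw [this]
    simp
  have hall : ∀ t : S.X₁.presheaf.stalk y, t ∈ m • (⊤ : Submodule R (S.X₁.presheaf.stalk y)) := fun t => by
    obtain ⟨t', rfl⟩ : ∃ t', KTheory.LocFree.stalkₗ e₁.hom y t' = t :=
      (Groth.QCohMod.epi_iff_stalk e₁.hom).1 inferInstance y t
    have hsum : KTheory.LocFree.stalkₗ S.f y (KTheory.LocFree.stalkₗ e₁.hom y t') =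
        ∑ j, KTheory.LocFree.stalkₗ (i j) y (KTheory.LocFree.stalkₗ (e₁.hom ≫ S.f ≫ p j) y t') := by
      conv_lhs => rw [show S.f = ∑ j, S.f ≫ p j ≫ i j by rw [← Preadditive.comp_sum, htot, Category.comp_id]]
      simp only [KTheory.LocFree.stalkₗ, LinearMap.coe_mk, AddHom.coe_mk, Functor.map_comp,
        ConcreteCategory.comp_apply]
      simp only [Fin.sum_univ_three, Functor.map_add, Functor.map_comp]
      simp only [AddCommGrpCat.hom_add_apply, ConcreteCategory.comp_apply]
      rfl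
    rw [← hρ (KTheory.LocFree.stalkₗ e₁.hom y t'), hsum, map_sum]
    refine Submodule.sum_mem _ fun j _ => ?_
    have hmem : KTheory.LocFree.stalkₗ (e₁.hom ≫ S.f ≫ p j) y t' ∈
        m • (⊤ : Submodule R (Twist.twistProjSpace n k (d j) |>.presheaf.stalk y)) := by
      by_cases h : e₁.hom ≫ S.f ≫ p j = 0
      · have : KTheory.LocFree.stalkₗ (e₁.hom ≫ S.f ≫ p j) y t' = 0 := by
          simp only [KTheory.LocFree.stalkₗ, LinearMap.coe_mk, AddHom.coe_mk, h, Functor.map_zero]
          rfl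
        rw [this]
        exact zero_mem _
      · have hG : G j = ⟨(hcomp j h).choose, ⟨(hcomp j h).choose_spec.choose_spec.choose,
            (mem_homogeneousSubmodule _ _).1 (hcomp j h).choose_spec.choose_spec.choose_spec.choose,
            (hcomp j h).choose_spec.choose_spec.choose_spec.choose_spec.1⟩⟩ := dif_pos h
        have h0 := hwG j
        rw [hG] at h0
        exact stalk_mem_smul _ _ _ (hcomp j h).choose_spec.choose_spec.choose_spec.choose_spec.2 x
          (hx _ _ ((mem_homogeneousSubmodule _ _).1 (hcomp j h).choose_spec.choose_spec.choose_spec.choose) h0) t'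
    have hmap : (m • (⊤ : Submodule R (Twist.twistProjSpace n k (d j) |>.presheaf.stalk y))).map
        (ρ ∘ₗ KTheory.LocFree.stalkₗ (i j) y) ≤ m • (⊤ : Submodule R (S.X₁.presheaf.stalk y)) := by
      rw [Submodule.map_smul'']
      exact Submodule.smul_mono le_rfl le_top
    exact hmap (Submodule.mem_map_of_mem hmem)
  have hsub := Submodule.eq_bot_of_le_smul_of_le_jacobson_bot m (⊤ : Submodule R (S.X₁.presheaf.stalk y))
    Module.Finite.fg_top (fun t _ => hall t) (IsLocalRing.maximalIdeal_le_jacobson _)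
  have h1 := Groth.LocFree.finrank_stalk h₁ y
  haveI : Subsingleton (S.X₁.presheaf.stalk y) :=
    Submodule.subsingleton_iff R |>.1 (subsingleton_of_bot_eq_top hsub.symm)
  rw [Module.finrank_zero_of_subsingleton] at h1
  exact Nat.zero_ne_one h1

/-- If one component of the inclusion is an isomorphism, the complement maps isomorphically to the quotient. -/
theorem isIso_complement {C : Type*} [Category C] [Abelian C] {S : ShortComplex C} (hS : S.ShortExact)
    {A B : C} (pA : S.X₂ ⟶ A) (iA : A ⟶ S.X₂) (pB : S.X₂ ⟶ B) (iB : B ⟶ S.X₂)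
    (htot : pA ≫ iA + pB ≫ iB = 𝟙 S.X₂) (hBA : iB ≫ pA = 0) (hBB : iB ≫ pB = 𝟙 B)
    [IsIso (S.f ≫ pA)] : IsIso (iB ≫ S.g) := by
  haveI := hS.mono_f
  haveI := hS.epi_g
  haveI : Mono (iB ≫ S.g) := Preadditive.mono_of_cancel_zero _ fun {W} h hh => by
    have hl := hS.exact.lift_f (h ≫ iB) (by rw [Category.assoc, hh])
    have h0 : hS.exact.lift (h ≫ iB) (by rw [Category.assoc, hh]) = 0 := by
      rw [← cancel_mono (S.f ≫ pA), ← Category.assoc, hl, Category.assoc, hBA, comp_zero, zero_comp]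
    rw [h0, zero_comp] at hl
    have := congrArg (· ≫ pB) hl
    simp only [zero_comp, Category.assoc, hBB, Category.comp_id] at this
    exact this.symm
  haveI : Epi (iB ≫ S.g) := Preadditive.epi_of_cancel_zero _ fun {W} h hh => by
    have h1 : S.g ≫ h = pA ≫ iA ≫ S.g ≫ h := by
      conv_lhs => rw [← Category.id_comp (S.g ≫ h), ← htot, Preadditive.add_comp, Category.assoc, Category.assoc]
      rw [Category.assoc] at hh
      rw [hh, comp_zero, add_zero]
    have h2 : (S.f ≫ pA) ≫ iA ≫ S.g ≫ h = 0 := by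
      rw [Category.assoc, ← h1, S.zero_assoc, zero_comp]
    have h3 : iA ≫ S.g ≫ h = 0 := (cancel_epi (S.f ≫ pA)).1 (h2.trans comp_zero.symm)
    rw [h3, comp_zero] at h1
    exact (cancel_epi S.g).1 (h1.trans comp_zero.symm)
  exact isIso_of_mono_of_epi _

end Groth.PnHyper
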