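import Groth.Agent.PnHyper.Horrocks
import Groth.Agent.PnEuler.EndOmega
import Groth.Agent.EulerDeg.FiniteSupport
import Groth.Agent.CohC3.ProperHelpers
import Groth.Agent.HilbStab.Scalar
import Groth.Agent.CohTwo.ProjHilbert
import Groth.Agent.S11505
import Groth.Agent.PnCoh.Vanishing

/-!
# Finite generation of the module of twisted sections of a bundle
-/

set_option autoImplicit false

noncomputable section

universe u

open CategoryTheory CategoryTheory.Limits AlgebraicGeometry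
open Groth.PicAux

namespace Groth.PnHyper

attribute [local instance] Groth.EulerDeg.secModule

theorem app_sum' {X : Scheme.{u}} {M N : X.Modules} {ι : Type} (S : Finset ι) (φ : ι → (M ⟶ N))
    (U : X.Opens) (x : Γ(M, U)) : (∑ i ∈ S, φ i).app U x = ∑ i ∈ S, (φ i).app U x := by
  classical
  induction S using Finset.induction with
  | empty => rfl
  | insert a S ha ih =>
    rw [Finset.sum_insert ha, Finset.sum_insert ha, ← ih]
    rfl

/-- Morphisms from an invertible module to a coherent one are finitely generated over the field. -/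
theorem exists_gen_finite {X : Scheme.{u}} (k : Type u) [Field k] [X.Over (Spec (CommRingCat.of k))]
    [IsProper (X ↘ Spec (CommRingCat.of k))] {L M E : X.Modules} (hM : PicF.IsInvertible M)
    (e : CohB1.tensorMod L M ≅ Coh.structureModule X) (hE : Coh.IsCoh (CohB1.tensorMod E M)) :
    ∃ (q : ℕ) (g : Fin q → (L ⟶ E)), ∀ σ : L ⟶ E,
      ∃ τ : L ⟶ ∐ (fun _ : Fin q => L), τ ≫ Sigma.desc g = σ := by
  let F := DCoh.tensorRightMod M
  haveI : F.IsEquivalence := isEquivalence_tensorRightMod_of_isInvertible hM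
  haveI : Module.Finite k (Coh.HH X (CohB1.tensorMod E M) 0) := Groth.CohC3.finite_HH_of_proper k X hE 0
  haveI : Module.Finite k Γ(CohB1.tensorMod E M, (⊤ : X.Opens)) :=
    Module.Finite.equiv (Groth.EulerDeg.h0Equiv k (CohB1.tensorMod E M))
  obtain ⟨q, s, hs⟩ := Module.Finite.exists_fin (R := k) (M := Γ(CohB1.tensorMod E M, (⊤ : X.Opens)))
  let e' : Coh.structureModule X ≅ F.obj L := e.symm
  let g : Fin q → (L ⟶ E) := fun l => F.preimage (e'.inv ≫ homOfSection (s l))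
  refine ⟨q, g, fun σ => ?_⟩
  let t : Γ(CohB1.tensorMod E M, (⊤ : X.Opens)) := (e'.hom ≫ F.map σ).app ⊤ (oneSec X ⊤)
  obtain ⟨c, hc⟩ := (Submodule.mem_span_range_iff_exists_fun k).1
    (show t ∈ Submodule.span k (Set.range s) by rw [hs]; trivial)
  let γ : Fin q → Γ(X, ⊤) := fun l => Groth.EulerDeg.toSec k ⊤ (c l)
  refine ⟨∑ l, Groth.HilbStab.scalar (γ l) L ≫ Sigma.ι (fun _ : Fin q => L) l, F.map_injective ?_⟩
  simp only [Preadditive.sum_comp, Category.assoc, Sigma.ι_desc]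
  refine (cancel_epi e'.hom).1 (hom_structure_ext ?_)
  refine Eq.trans ?_ hc
  rw [F.map_sum, Preadditive.comp_sum]
  refine (app_sum' Finset.univ _ ⊤ _).trans (Finset.sum_congr rfl fun l _ => ?_)
  have key : (e'.hom ≫ F.map (g l)).app ⊤ (oneSec X ⊤) = s l := by
    simp only [g, Functor.map_preimage]
    erw [e'.hom_inv_id_assoc]
    exact homOfSection_one (s l)
  rw [Groth.PnEuler.scalar_comp, F.map_comp]
  change (F.map (Groth.HilbStab.scalar (γ l) E)).app ⊤ ((e'.hom ≫ F.map (g l)).app ⊤ (oneSec X ⊤)) = _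
  rw [key]
  erw [Groth.HilbStab.tensor_scalar (γ l) E M]
  erw [Groth.HilbStab.scalar_app]
  rw [resX_self]
  rfl

variable {k : Type u} [Field k]

local notation "O[" n "](" d ")" => Twist.twistProjSpace n k d

/-- A bundle without maps from `O(b)`, `b ≥ 0`, has all twisted sections generated in negative degrees. -/
theorem exists_gen_negative {n : ℕ} {E : (CohB1.ProjSpace n k).Modules} (hEl : FlatMod.IsFinLocFree E)
    (h0 : ∀ b : ℤ, 0 ≤ b → ∀ σ : O[n](b) ⟶ E, σ = 0) :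
    ∃ (s : ℕ) (m : Fin s → ℤ) (p : (∐ fun j : Fin s => O[n](m j)) ⟶ E),
      Epi p ∧ (∀ j, m j < 0) ∧ ∀ (b : ℤ) (σ : O[n](b) ⟶ E), ∃ τ, τ ≫ p = σ := by
  have hinv := Groth.PnCoh.isInvertible_twist n k
  have hE := Groth.KTheory.LocFree.isCoh hEl
  obtain ⟨r₁, d, p₁, hd, hp₁⟩ := Groth.PnCoh.exists_epi_twists (𝒜 := CohB1.polyGrading n k) E hE (-1)
  haveI := Groth.PnCoh.isLocallyNoetherian_projSpace n k
  haveI := hE.1
  let p₁' : (∐ fun j : Fin r₁ => O[n](d j)) ⟶ E := p₁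
  haveI : Epi p₁' := hp₁
  have hK : Coh.IsCoh (kernel p₁') := QCohMod.isCoh_kernel p₁'
    (Groth.KTheory.LocFree.isCoh (Groth.LocFree.isFinLocFree_of_rank (isFinLocFreeOfRank_twists d)))
  obtain ⟨d₀, hd₀⟩ := Groth.PnCoh.exists_subsingleton_twistBy n k (kernel p₁') hK
  let B := d₀.toNat
  have hfin : ∀ i : Fin B, ∃ (q : ℕ) (g : Fin q → (O[n](-((i : ℕ) : ℤ) - 1) ⟶ E)),
      ∀ σ, ∃ τ : O[n](-((i : ℕ) : ℤ) - 1) ⟶ ∐ (fun _ : Fin q => O[n](-((i : ℕ) : ℤ) - 1)), τ ≫ Sigma.desc g = σ :=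
    fun i => exists_gen_finite k (hinv (-(-((i : ℕ) : ℤ) - 1)))
      (Groth.Duality.Pn.isInverseOf_twist n k _).some
      (Groth.KTheory.LocFree.isCoh (Groth.LocFree.isFinLocFree_tensorMod hEl (Groth.LocFree.isFinLocFree_of_rank (Groth.LocFree.isInvertible_iff_ofRank_one.1 (hinv _)))))
  choose q g hg using hfin
  let ι := Fin r₁ ⊕ Σ i : Fin B, Fin (q i)
  let e := Fintype.equivFin ι
  let m₀ : ι → ℤ := Sum.elim d fun x => -((x.1 : ℕ) : ℤ) - 1
  let m : Fin (Fintype.card ι) → ℤ := fun j => m₀ (e.symm j)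
  let p₀ : (∐ fun x : ι => O[n](m₀ x)) ⟶ E := Sigma.desc fun x => match x with
    | Sum.inl j => Sigma.ι (fun j : Fin r₁ => O[n](d j)) j ≫ p₁'
    | Sum.inr x => g x.1 x.2
  let T : (∐ fun j => O[n](m j)) ≅ ∐ fun x : ι => O[n](m₀ x) := Sigma.reindex e.symm (fun x : ι => O[n](m₀ x))
  let inl' : (∐ fun j : Fin r₁ => O[n](d j)) ⟶ ∐ fun x : ι => O[n](m₀ x) :=
    Sigma.desc fun j => Sigma.ι (fun x : ι => O[n](m₀ x)) (Sum.inl j)
  have hl : inl' ≫ p₀ = p₁' := Sigma.hom_ext _ _ fun j => by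
    rw [Sigma.ι_desc_assoc]; exact Sigma.ι_desc _ _
  haveI : Epi p₀ := by
    haveI : Epi (inl' ≫ p₀) := hl ▸ inferInstance
    exact epi_of_epi inl' p₀
  refine ⟨_, m, T.hom ≫ p₀, inferInstance, fun j => ?_, fun b σ => ?_⟩
  · change m₀ (e.symm j) < 0
    rcases e.symm j with j | x
    · exact lt_of_le_of_lt (hd j) (by norm_num)
    · change -((x.1 : ℕ) : ℤ) - 1 < 0
      omega
  suffices ∃ τ, τ ≫ p₀ = σ by
    obtain ⟨τ, hτ⟩ := this
    exact ⟨τ ≫ T.inv, by rw [Category.assoc, T.inv_hom_id_assoc, hτ]⟩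
  rcases le_or_gt 0 b with hb | hb
  · exact ⟨0, by rw [zero_comp, h0 b hb σ]⟩
  by_cases hbig : d₀ ≤ -b
  · letI : (CohB1.ProjSpace n k).Over (Spec (CommRingCat.of k)) := ⟨CohB1.ProjSpace.toSpec n k⟩
    let S := ShortComplex.mk (kernel.ι p₁') p₁' (kernel.condition p₁')
    have hS : S.ShortExact :=
      { exact := ShortComplex.exact_of_f_is_kernel _ (kernelIsKernel p₁') }
    obtain ⟨τ, hτ⟩ := exists_lift_invertible k hS (hinv (-b))
      (Groth.Duality.Pn.isInverseOf_twist n k b).some (hd₀ (-b) hbig 1 Nat.one_pos) σ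
    exact ⟨τ ≫ inl', by rw [Category.assoc, hl]; exact hτ⟩
  · obtain ⟨i, hi⟩ : ∃ i : Fin B, b = -((i : ℕ) : ℤ) - 1 :=
      ⟨⟨(-b - 1).toNat, by omega⟩, by simp only; omega⟩
    subst hi
    obtain ⟨τ, hτ⟩ := hg i σ
    refine ⟨τ ≫ Sigma.desc (fun l => Sigma.ι (fun x : ι => O[n](m₀ x)) (Sum.inr ⟨i, l⟩)), ?_⟩
    rw [Category.assoc, ← hτ]
    refine congrArg (τ ≫ ·) (Sigma.hom_ext _ _ fun l => ?_)
    rw [Sigma.ι_desc_assoc, Sigma.ι_desc]
    exact Sigma.ι_desc _ _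

end Groth.PnHyper
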