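import Groth.Agent.PnHyper.Lift
import Groth.Agent.VBCurves.P1Split
import Groth.Agent.PicAux.ProjBundlePic
import Groth.Agent.PnCoh.Cohomology
import Groth.Agent.SerreH0.Basic
import Groth.Agent.PnCoh.TwistQuot
import Groth.Agent.S11489

/-!
# Bundles split on a hyperplane and without intermediate cohomology split
-/

set_option autoImplicit false

noncomputable section

universe u

open CategoryTheory CategoryTheory.Limits AlgebraicGeometry
open Groth.PicAux

namespace Groth.PnHyper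

variable {X Z : Scheme.{u}}

/-- Morphisms killed by restriction along a closed immersion factor. -/
theorem exists_factor_closed (h : Z ⟶ X) [IsClosedImmersion h] {E L : X.Modules}
    (hE : FlatMod.IsFinLocFree E) (σ : L ⟶ E) (h0 : (Scheme.Modules.pullback h).map σ = 0) :
    ∃ σ', σ' ≫ jmap h.ker E = σ := by
  haveI : IsIso h.toImage := inferInstanceAs (IsIso h.toImage)
  haveI := isEquivalence_pullback h.toImage
  let ν : Scheme.Modules.pullback h.ker.subschemeι ⋙ Scheme.Modules.pullback h.toImage ≅ Scheme.Modules.pullback h :=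
    Scheme.Modules.pullbackComp h.toImage h.ker.subschemeι ≪≫
      eqToIso (congrArg (fun g => Scheme.Modules.pullback g) (Scheme.Hom.toImage_imageι h))
  refine exists_factor_of_pullback_eq_zero h.ker hE σ ((Scheme.Modules.pullback h.toImage).map_injective ?_)
  have : (Scheme.Modules.pullback h.toImage).Additive :=
    (Scheme.Modules.pullbackPushforwardAdjunction _).left_adjoint_additive
  rw [Functor.map_zero]
  exact ((NatIso.naturality_1 ν.symm σ).symm.trans (by rw [h0, zero_comp, comp_zero]))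

/-- Morphisms on a closed subscheme lift. -/
theorem exists_lift_closed (k : Type u) [Field k] [X.Over (Spec (CommRingCat.of k))]
    (h : Z ⟶ X) [IsClosedImmersion h]
    {E : X.Modules} (hE : FlatMod.IsFinLocFree E) {L M : X.Modules} (hM : PicF.IsInvertible M)
    (e : CohB1.tensorMod L M ≅ Coh.structureModule X)
    (h1 : Subsingleton (Coh.HH X (CohB1.tensorMod (CohB1.tensorMod E (ClSub.idealMod h.ker)) M) 1))
    (σ₀ : (Scheme.Modules.pullback h).obj L ⟶ (Scheme.Modules.pullback h).obj E) :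
    ∃ σ : L ⟶ E, (Scheme.Modules.pullback h).map σ = σ₀ := by
  haveI : IsIso h.toImage := inferInstanceAs (IsIso h.toImage)
  haveI := isEquivalence_pullback h.toImage
  let ν : Scheme.Modules.pullback h.ker.subschemeι ⋙ Scheme.Modules.pullback h.toImage ≅ Scheme.Modules.pullback h :=
    Scheme.Modules.pullbackComp h.toImage h.ker.subschemeι ≪≫
      eqToIso (congrArg (fun g => Scheme.Modules.pullback g) (Scheme.Hom.toImage_imageι h))
  obtain ⟨σ, hσ⟩ := exists_lift_of_pullback h.ker k hE hM e h1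
    ((Scheme.Modules.pullback h.toImage).preimage (ν.hom.app L ≫ σ₀ ≫ ν.inv.app E))
  refine ⟨σ, (NatIso.naturality_1 ν σ).symm.trans ?_⟩
  show ν.inv.app L ≫ (Scheme.Modules.pullback h.toImage).map ((Scheme.Modules.pullback h.ker.subschemeι).map σ) ≫
    ν.hom.app E = σ₀
  rw [hσ, Functor.map_preimage]
  simp

/-- A morphism out of an invertible module is zero when the twisted target has no sections. -/
theorem eq_zero_of_twist {L M E : X.Modules} (hM : PicF.IsInvertible M)
    (e : CohB1.tensorMod L M ≅ Coh.structureModule X)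
    (h0 : ∀ t : Coh.structureModule X ⟶ CohB1.tensorMod E M, t = 0) (σ : L ⟶ E) : σ = 0 := by
  haveI := isEquivalence_tensorRightMod_of_isInvertible hM
  refine (DCoh.tensorRightMod M).map_injective ?_
  rw [Functor.map_zero]
  let T : CohB1.tensorMod L M ⟶ CohB1.tensorMod E M := (DCoh.tensorRightMod M).map σ
  have hT : T = 0 := by
    refine (cancel_epi e.inv).1 ?_
    rw [comp_zero]
    exact h0 _
  exact hT

/-- Factorisation through `φ` passes through the ideal. -/
theorem exists_step {I : X.IdealSheafData} (hI : PicF.IsInvertible (ClSub.idealMod I)) {L L' E F : X.Modules}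
    (φ : F ⟶ E) (θ : L ≅ CohB1.tensorMod L' (ClSub.idealMod I))
    (h : ∀ s : L' ⟶ E, ∃ τ, τ ≫ φ = s) (σ' : L ⟶ CohB1.tensorMod E (ClSub.idealMod I)) :
    ∃ τ : L ⟶ F, τ ≫ φ = σ' ≫ jmap I E := by
  haveI := isEquivalence_tensorRightMod_of_isInvertible hI
  let m : CohB1.tensorMod L' (ClSub.idealMod I) ⟶ CohB1.tensorMod E (ClSub.idealMod I) := θ.inv ≫ σ'
  obtain ⟨τ'', hτ''⟩ := h ((DCoh.tensorRightMod (ClSub.idealMod I)).preimage m)
  have h2 : KoszTw.tensorMap τ'' (𝟙 _) ≫ KoszTw.tensorMap φ (𝟙 (ClSub.idealMod I)) = m := by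
    rw [← KoszTw.tensorMap_comp, Category.comp_id, hτ'', ← KoszTw.tensorRightMod_map, Functor.map_preimage]
  refine ⟨θ.hom ≫ KoszTw.tensorMap τ'' (𝟙 _) ≫ jmap I F, ?_⟩
  rw [Category.assoc, Category.assoc, ← jmap_natural, ← Category.assoc (KoszTw.tensorMap τ'' _), h2]
  simp only [m, Category.assoc, Iso.hom_inv_id_assoc]

variable {k : Type u} [Field k]

local notation "O[" n "](" d ")" => Twist.twistProjSpace n k d

theorem isFinLocFreeOfRank_twists {n r : ℕ} (a : Fin r → ℤ) :
    FlatMod.IsFinLocFreeOfRank r (∐ fun j => O[n](a j)) :=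
  isFinLocFreeOfRank_sigma _ fun j =>
    Groth.LocFree.isInvertible_iff_ofRank_one.1 (Groth.PnCoh.isInvertible_twist n k (a j))

/-- Cohomology of sums of twists tensored with a twist. -/
theorem subsingleton_twists {n r : ℕ} (a : Fin r → ℤ) (d : ℤ) {q : ℕ} (hq : 0 < q) (hqn : q < n) :
    Subsingleton (Coh.HH (CohB1.ProjSpace n k) (CohB1.tensorMod (∐ fun j => O[n](a j)) O[n](d)) q) := by
  let F := DCoh.tensorRightMod O[n](d)
  haveI : F.IsEquivalence := isEquivalence_tensorRightMod_of_isInvertible (Groth.PnCoh.isInvertible_twist n k d)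
  refine Groth.Variety2.Reg.subsingleton_of_iso k
    (PreservesCoproduct.iso F fun j => O[n](a j)).symm (subsingleton_sigma k q _ fun j => ?_)
  obtain ⟨e⟩ := Groth.Duality.Pn.nonempty_twist_tensor n k (a j) d
  exact Groth.Variety2.Reg.subsingleton_of_iso k e.symm
    (Groth.PnCoh.subsingleton_HH_twist (n := n) (R := k) (a j + d) q (by omega) (by omega))

/-- A bundle on `P^{N+1}` with `H¹(E(d)) = 0` for all `d` which splits on a hyperplane splits. -/
theorem nonempty_iso_of_restriction {N r : ℕ} (hN : 1 ≤ N)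
    (h : CohB1.ProjSpace N k ⟶ CohB1.ProjSpace (N + 1) k) [IsClosedImmersion h]
    (hI : Nonempty (ClSub.idealMod h.ker ≅ O[N + 1](-1)))
    (htw : ∀ d : ℤ, Nonempty ((Scheme.Modules.pullback h).obj O[N + 1](d) ≅ O[N](d)))
    {E : (CohB1.ProjSpace (N + 1) k).Modules} (hE : FlatMod.IsFinLocFreeOfRank r E)
    (h1 : ∀ d : ℤ, Subsingleton (Coh.HH (CohB1.ProjSpace (N + 1) k) (CohB1.tensorMod E O[N + 1](d)) 1))
    (a : Fin r → ℤ) (hs : Nonempty ((Scheme.Modules.pullback h).obj E ≅ ∐ fun j => O[N](a j))) :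
    Nonempty (E ≅ ∐ fun j => O[N + 1](a j)) := by
  obtain ⟨s⟩ := hs
  obtain ⟨eI⟩ := hI
  have hEl := Groth.LocFree.isFinLocFree_of_rank hE
  let P := Scheme.Modules.pullback h
  haveI : PreservesColimitsOfSize.{0, 0} P :=
    (Scheme.Modules.pullbackPushforwardAdjunction h).leftAdjoint_preservesColimits
  haveI : P.Additive := (Scheme.Modules.pullbackPushforwardAdjunction h).left_adjoint_additive
  let fam : Fin r → (CohB1.ProjSpace (N + 1) k).Modules := fun j => O[N + 1](a j)
  let F := ∐ fam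
  have hF : FlatMod.IsFinLocFreeOfRank r F := isFinLocFreeOfRank_twists a
  have hFl := Groth.LocFree.isFinLocFree_of_rank hF
  let φ₀ : P.obj F ≅ P.obj E :=
    PreservesCoproduct.iso P fam ≪≫ Sigma.mapIso (fun j => (htw (a j)).some) ≪≫ s.symm
  have hinv := Groth.PnCoh.isInvertible_twist (N + 1) k
  have hunit : ∀ b : ℤ, Nonempty (CohB1.tensorMod O[N + 1](b) O[N + 1](-b) ≅ Coh.structureModule _) :=
    fun b => Groth.Duality.Pn.isInverseOf_twist (N + 1) k b
  have hker : ∀ (G : (CohB1.ProjSpace (N + 1) k).Modules) (b : ℤ),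
      Subsingleton (Coh.HH (CohB1.ProjSpace (N + 1) k) (CohB1.tensorMod G O[N + 1](-b - 1)) 1) →
      Subsingleton (Coh.HH (CohB1.ProjSpace (N + 1) k)
        (CohB1.tensorMod (CohB1.tensorMod G (ClSub.idealMod h.ker)) O[N + 1](-b)) 1) := fun G b hG => by
    obtain ⟨as, -⟩ := exists_associator G (ClSub.idealMod h.ker) O[N + 1](-b)
    obtain ⟨e⟩ := Groth.Duality.Pn.nonempty_twist_tensor (N + 1) k (-1) (-b)
    exact Groth.Variety2.Reg.subsingleton_of_iso k (as ≪≫ PicGrp.tensorModIso (Iso.refl G)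
      (PicGrp.tensorModIso eI (Iso.refl _) ≪≫ e ≪≫ eqToIso (by rw [show (-1 : ℤ) + -b = -b - 1 by ring]))).symm hG
  have lift : ∀ (b : ℤ) {G : (CohB1.ProjSpace (N + 1) k).Modules}, FlatMod.IsFinLocFree G →
      (∀ d : ℤ, Subsingleton (Coh.HH (CohB1.ProjSpace (N + 1) k) (CohB1.tensorMod G O[N + 1](d)) 1)) →
      ∀ σ₀ : P.obj O[N + 1](b) ⟶ P.obj G, ∃ σ : O[N + 1](b) ⟶ G, P.map σ = σ₀ := fun b G hG hG1 σ₀ =>
    exists_lift_closed k h hG (hinv (-b)) (hunit b).some (hker G b (hG1 _)) σ₀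
  choose σ hσ using fun j => lift (a j) hEl h1 (P.map (Sigma.ι fam j) ≫ φ₀.hom)
  let φ : F ⟶ E := Sigma.desc σ
  have hφ : P.map φ = φ₀.hom := by
    refine (cancel_epi (PreservesCoproduct.iso P fam).inv).1 (Sigma.hom_ext _ _ fun j => ?_)
    simp only [PreservesCoproduct.inv_hom, ι_comp_sigmaComparison_assoc, ← P.map_comp]
    rw [show Sigma.ι fam j ≫ φ = σ j from Sigma.ι_desc _ _, hσ]
  have hI' : PicF.IsInvertible (ClSub.idealMod h.ker) := Groth.PicAux.isInvertible_of_iso (hinv (-1)) eI.symm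
  obtain ⟨m₀, hm₀⟩ := exists_vanish hEl
  have main : ∀ (t : ℕ) (b : ℤ), m₀ ≤ b + t → ∀ σ : O[N + 1](b) ⟶ E, ∃ τ, τ ≫ φ = σ := by
    intro t
    induction t with
    | zero =>
      intro b hb σ
      refine ⟨0, zero_comp.trans (eq_zero_of_twist (hinv (-b)) (hunit b).some (fun t => ?_) σ).symm⟩
      by_contra hne
      exact (Groth.SerreH0.sections_ne_zero_iff _).2 ⟨_, hne⟩ (hm₀ b (by simpa using hb) 0 (Nat.succ_pos N))
    | succ t ih =>
      intro b hb σ
      obtain ⟨τ, hτ⟩ := lift b hFl (fun d => subsingleton_twists a d Nat.one_pos (by omega)) (P.map σ ≫ φ₀.inv)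
      obtain ⟨σ', hσ'⟩ := exists_factor_closed h hEl (σ - τ ≫ φ) (by
        change P.map (σ - τ ≫ φ) = 0
        rw [P.map_sub, P.map_comp, hτ, hφ, Category.assoc, φ₀.inv_hom_id, Category.comp_id, sub_self])
      obtain ⟨e⟩ := Groth.Duality.Pn.nonempty_twist_tensor (N + 1) k (b + 1) (-1)
      let θ : O[N + 1](b) ≅ CohB1.tensorMod O[N + 1](b + 1) (ClSub.idealMod h.ker) :=
        eqToIso (by rw [add_neg_cancel_right]) ≪≫ e.symm ≪≫ PicGrp.tensorModIso (Iso.refl _) eI.symm
      obtain ⟨τ₁, hτ₁⟩ := exists_step hI' φ θ (ih (b + 1) (by push_cast at hb; omega)) σ'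
      refine ⟨τ + τ₁, ?_⟩
      rw [Preadditive.add_comp, hτ₁, hσ', add_sub_cancel]
  obtain ⟨r', d, p, -, hp⟩ := Groth.PnCoh.exists_epi_twists (𝒜 := CohB1.polyGrading (N + 1) k) E
    (Groth.KTheory.LocFree.isCoh hEl) 0
  let p' : (∐ fun i => O[N + 1](d i)) ⟶ E := p
  choose τ hτ using fun j => main ((m₀ - d j).toNat) (d j) (by omega) (Sigma.ι (fun i => O[N + 1](d i)) j ≫ p')
  haveI : Epi φ := by
    have h3 : p' = Sigma.desc τ ≫ φ := Sigma.hom_ext _ _ fun j => by rw [Sigma.ι_desc_assoc, hτ]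
    have hp' : Epi p' := hp
    haveI : Epi (Sigma.desc τ ≫ φ) := h3 ▸ hp'
    exact epi_of_epi (Sigma.desc τ) φ
  haveI := isIso_of_epi_rank hF hE φ
  exact ⟨(asIso φ).symm⟩

/-- A bundle on the point `P^0` is trivial. -/
theorem nonempty_iso_point {r : ℕ} {E : (CohB1.ProjSpace 0 k).Modules} (hE : FlatMod.IsFinLocFreeOfRank r E) :
    Nonempty (E ≅ ∐ fun _ : Fin r => O[0](0)) := by
  haveI := Groth.PicAux.ProjBundlePic.subsingleton_projSpace_zero (K := k)
  obtain ⟨e0⟩ := Groth.PnCoh.nonempty_twist_zero_iso (CohB1.polyGrading 0 k)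
  haveI := Groth.Curves1.RR.isIntegral_projSpace k 0
  obtain ⟨x⟩ : Nonempty (CohB1.ProjSpace 0 k) := inferInstance
  obtain ⟨U, s, -, hxU, hs⟩ := Groth.LocFree.exists_affine_basis_ofRank hE x
  obtain rfl : U = ⊤ := eq_top_iff.2 fun y _ => Subsingleton.elim x y ▸ hxU
  obtain ⟨e⟩ := Groth.Agent.S11489.nonempty_iso_freeMod (t := s) fun y => ⟨⊤, trivial, by simpa only [res_self] using hs⟩
  exact ⟨e ≪≫ Sigma.mapIso fun _ => e0.symm⟩

/-- Horrocks' criterion, the hard direction. -/
theorem exists_split_of_vanish : ∀ (n r : ℕ) (E : (CohB1.ProjSpace n k).Modules),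
    FlatMod.IsFinLocFreeOfRank r E →
    (∀ (i : ℕ) (d : ℤ), 0 < i → i < n →
      Subsingleton (Coh.HH (CohB1.ProjSpace n k) (CohB1.tensorMod E O[n](d)) i)) →
    ∃ a : Fin r → ℤ, Nonempty (E ≅ ∐ fun j : Fin r => O[n](a j)) := by
  intro n
  induction n with
  | zero => exact fun r E hE _ => ⟨_, nonempty_iso_point hE⟩
  | succ N ih =>
    intro r E hE hv
    rcases Nat.eq_zero_or_pos N with rfl | hN
    · obtain ⟨d, -, he⟩ := Groth.VBCurves.P1Split.exists_split (k := k) r E hE
      exact ⟨d, he⟩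
    obtain ⟨h, hh, -, -, hI, htw⟩ := exists_hyperplane (k := k) (N := N) (fun _ => 1)
      (fun h => one_ne_zero (congrFun h 0))
    obtain ⟨a, ha⟩ := ih r _ (Groth.LocFree.isFinLocFreeOfRank_pullback h hE) fun i d hi hiN => by
      obtain ⟨S, hS, ⟨e1⟩, ⟨e2⟩, ⟨e3⟩⟩ := exists_twistSeq h hI htw (Groth.LocFree.isFinLocFree_of_rank hE) d
      exact (subsingleton_push_iff h i _).1 (Groth.Variety2.Reg.subsingleton_of_iso k e3
        (Groth.Variety2.Reg.subsingleton_right k hS (Groth.Variety2.Reg.subsingleton_of_iso k e2.symm (hv i d hi (by omega)))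
          (Groth.Variety2.Reg.subsingleton_of_iso k e1.symm (hv (i + 1) (d - 1) (by omega) (by omega)))))
    exact ⟨a, nonempty_iso_of_restriction hN h hI htw hE (fun d => hv 1 d Nat.one_pos (by omega)) a ha⟩

end Groth.PnHyper
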