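import Groth.Agent.PnHyper.Basic
import Groth.Agent.Duality.ProjDepth
import Groth.Agent.Duality.PnStalk

/-!
# Twists under linear embeddings and vanishing of very negative twists
-/

set_option autoImplicit false

noncomputable section

universe u

open CategoryTheory CategoryTheory.Limits AlgebraicGeometry
open Groth.PicAux

namespace Groth.PnHyper

variable {k : Type u} [Field k]

local notation "O[" n "](" d ")" => Twist.twistProjSpace n k d

/-- All twists pull back to twists along a linear embedding. -/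
theorem nonempty_pullback_twist {m n : ℕ} (i : CohB1.ProjSpace m k ⟶ CohB1.ProjSpace n k)
    (hO : Nonempty ((Scheme.Modules.pullback i).obj O[n](1) ≅ O[m](1))) (d : ℤ) :
    Nonempty ((Scheme.Modules.pullback i).obj O[n](d) ≅ O[m](d)) := by
  have step : ∀ (a : ℤ), Nonempty ((Scheme.Modules.pullback i).obj O[n](a) ≅ O[m](a)) →
      ∀ b : ℤ, Nonempty ((Scheme.Modules.pullback i).obj O[n](b) ≅ O[m](b)) →
      Nonempty ((Scheme.Modules.pullback i).obj O[n](a + b) ≅ O[m](a + b)) := fun a ⟨ea⟩ b ⟨eb⟩ => by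
    obtain ⟨t⟩ := Groth.Duality.Pn.nonempty_twist_tensor n k a b
    obtain ⟨t'⟩ := Groth.Duality.Pn.nonempty_twist_tensor m k a b
    obtain ⟨ep, -⟩ := exists_pullback_tensorMod i O[n](a) O[n](b)
    exact ⟨(Scheme.Modules.pullback i).mapIso t.symm ≪≫ ep ≪≫ PicGrp.tensorModIso ea eb ≪≫ t'⟩
  induction d using Int.induction_on with
  | zero =>
    obtain ⟨a⟩ := Groth.PnCoh.nonempty_twist_zero_iso (CohB1.polyGrading n k)
    obtain ⟨b⟩ := Groth.PnCoh.nonempty_twist_zero_iso (CohB1.polyGrading m k)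
    obtain ⟨c⟩ := pullback_structure_iso i
    exact ⟨(Scheme.Modules.pullback i).mapIso a ≪≫ c ≪≫ b.symm⟩
  | succ d ih => exact step _ ih 1 hO
  | pred d ih => exact sub_eq_add_neg (-(d : ℤ)) 1 ▸ step _ ih (-1) (pullback_inv_twist i hO)

/-- Very negative twists of a bundle on `ℙⁿ` have no cohomology below degree `n`. -/
theorem exists_vanish {n : ℕ} {E : (CohB1.ProjSpace n k).Modules} (hE : FlatMod.IsFinLocFree E) :
    ∃ m₀ : ℤ, ∀ m : ℤ, m₀ ≤ m → ∀ i : ℕ, i < n →
      Subsingleton (Coh.HH (CohB1.ProjSpace n k) (CohB1.tensorMod E O[n](-m)) i) := by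
  haveI := Groth.Curves1.RR.isIntegral_projSpace k n
  haveI : ConnectedSpace (CohB1.ProjSpace n k) := inferInstance
  have h := (Groth.Duality.isFinLocFree_iff_vanishing (𝟙 (CohB1.ProjSpace n k))
    (fun x => Groth.Duality.Pn.isRegularLocalRing_stalk n k x) n Groth.Variety2.PSpace.dim_projSpace
    (Groth.KTheory.LocFree.isCoh hE)).1 hE
  obtain ⟨m₀, hm⟩ := (Groth.Duality.Pn.forall_negVanish_iff _ n).1 h
  exact ⟨m₀, fun m hm' i hi => Groth.Variety2.Reg.subsingleton_of_iso k
    (PicGrp.tensorModIso ((Scheme.Modules.pushforwardId _).app E) (Iso.refl _)) (hm m hm' i hi)⟩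

theorem not_isClosedImmersion_to_point {m : ℕ} (hm : 1 ≤ m)
    (i : CohB1.ProjSpace m k ⟶ CohB1.ProjSpace 0 k) : ¬ IsClosedImmersion i := by
  intro h
  have h1 := i.isClosedEmbedding.isInducing.topologicalKrullDim_le
  rw [Groth.Variety2.PSpace.dim_projSpace, Groth.Variety2.PSpace.dim_projSpace] at h1
  have : m ≤ 0 := by exact_mod_cast h1
  omega

end Groth.PnHyper
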